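/-
The normal form of an irreducible pair of elements of orders two and three in dimension three.
Main results: `trace_invol`, `exists_frame`.
-/
import Cfsg.Agent.Lib.Mitchell.Residual.Lift

set_option autoImplicit false

namespace Cfsg.Agent.Mitchell.Residual.UThreeFive

open Matrix

universe u

variable {F : Type u} [Field F]

/-- The involution in normal form. -/
def frameA (x y : F) : Matrix (Fin 3) (Fin 3) F := !![1, x, y; 0, -1, 0; 0, 0, -1]

/-- The element of order three in normal form. -/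
def frameB : Matrix (Fin 3) (Fin 3) F := !![0, 0, 1; 1, 0, 0; 0, 1, 0]

/-- An involution of determinant one that is not the identity has trace minus one. -/
theorem trace_invol (g : GL (Fin 3) F) (hd : (g : Matrix (Fin 3) (Fin 3) F).det = 1) (hg : g * g = 1)
    (h1 : g ≠ 1) : (g : Matrix (Fin 3) (Fin 3) F).trace = -1 := by
  have hch := cayley_three g hd
  rw [inv_eq_of_mul_eq_one_left hg] at hch
  have hM : (g : Matrix (Fin 3) (Fin 3) F) * g = 1 := by rw [← Units.val_mul, hg, Units.val_one]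
  rw [pow_succ, pow_two, hM, one_mul] at hch
  by_contra hne
  set t := (g : Matrix (Fin 3) (Fin 3) F).trace with ht
  have h : (1 + t) • ((g : Matrix (Fin 3) (Fin 3) F) - 1) = 0 := by
    have h0 := sub_eq_zero.2 hch
    rw [← h0, smul_sub, add_smul, add_smul, one_smul, one_smul]
    abel
  rcases smul_eq_zero.1 h with h2 | h2
  · exact hne (eq_neg_of_add_eq_zero_right h2)
  · exact h1 (Units.ext (sub_eq_zero.1 h2))

/-- **The normal form.** -/
theorem exists_frame [CharP F 5] (a b : GL (Fin 3) F) (hd : (a : Matrix (Fin 3) (Fin 3) F).det = 1)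
    (ha : a * a = 1) (ha1 : a ≠ 1) (hb : b * (b * b) = 1)
    (hirr : ∀ W : Submodule F (Fin 3 → F), (∀ v ∈ W, (a : Matrix (Fin 3) (Fin 3) F) *ᵥ v ∈ W) →
      (∀ v ∈ W, (b : Matrix (Fin 3) (Fin 3) F) *ᵥ v ∈ W) → W = ⊥ ∨ W = ⊤) :
    ∃ C : GL (Fin 3) F,
      (a : Matrix (Fin 3) (Fin 3) F) * (C : Matrix (Fin 3) (Fin 3) F) = (C : Matrix (Fin 3) (Fin 3) F) *
        frameA ((a : Matrix (Fin 3) (Fin 3) F) * (b : Matrix (Fin 3) (Fin 3) F)).trace
          ((a : Matrix (Fin 3) (Fin 3) F) *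
            ((b : Matrix (Fin 3) (Fin 3) F) * (b : Matrix (Fin 3) (Fin 3) F))).trace ∧
      (b : Matrix (Fin 3) (Fin 3) F) * (C : Matrix (Fin 3) (Fin 3) F) = (C : Matrix (Fin 3) (Fin 3) F) * frameB := by
  haveI : Fact (Nat.Prime 5) := ⟨Nat.prime_five⟩
  obtain ⟨A, hA⟩ : ∃ A, A = (a : Matrix (Fin 3) (Fin 3) F) := ⟨_, rfl⟩
  obtain ⟨B, hB⟩ : ∃ B, B = (b : Matrix (Fin 3) (Fin 3) F) := ⟨_, rfl⟩
  have hAA : A * A = 1 := by rw [hA, ← Units.val_mul, ha, Units.val_one]
  have hBBB : B * (B * B) = 1 := by rw [hB, ← Units.val_mul, ← Units.val_mul, hb, Units.val_one]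
  have htr : A.trace = -1 := hA ▸ trace_invol a hd ha ha1
  have h5 : (5 : F) = 0 := by exact_mod_cast CharP.cast_eq_zero F 5
  rw [← hA, ← hB]
  rw [← hA, ← hB] at hirr
  set N : Matrix (Fin 3) (Fin 3) F := A + 1 with hN
  -- three times `A + 1` is a projection of rank one
  set π : (Fin 3 → F) →ₗ[F] (Fin 3 → F) := Matrix.toLin' ((3 : F) • N) with hπ
  have hproj : ((3 : F) • N) * ((3 : F) • N) = (3 : F) • N := by
    have hNN : N * N = (2 : F) • N := by
      rw [hN, add_mul, mul_add, hAA, mul_one, one_mul, two_smul]; abel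
    rw [Matrix.smul_mul, Matrix.mul_smul, hNN, smul_smul, smul_smul]
    congr 1
    linear_combination (3 : F) * h5
  have hP : LinearMap.IsProj (LinearMap.range π) π := by
    refine ⟨fun v => LinearMap.mem_range_self π v, ?_⟩
    rintro _ ⟨v, rfl⟩
    rw [hπ, Matrix.toLin'_apply, Matrix.toLin'_apply, Matrix.mulVec_mulVec, hproj]
  have hrank : Module.finrank F (LinearMap.range π) = 1 := by
    have h := hP.trace
    rw [hπ, Matrix.trace_toLin'_eq, Matrix.trace_smul, hN, Matrix.trace_add, htr, Matrix.trace_one,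
      Fintype.card_fin, smul_eq_mul] at h
    have h' : ((Module.finrank F (LinearMap.range π) : ℕ) : F) = ((1 : ℕ) : F) := by
      rw [hπ, hN, ← h, Nat.cast_ofNat, Nat.cast_one]
      linear_combination h5
    have hle := (LinearMap.range π).finrank_le
    rw [Module.finrank_fin_fun] at hle
    rw [CharP.natCast_eq_natCast F 5, Nat.ModEq, Nat.mod_eq_of_lt (by omega : _ < 5)] at h'
    simpa using h'
  obtain ⟨c', hc0, hc⟩ := finrank_eq_one_iff'.1 hrank
  set c : Fin 3 → F := (c' : Fin 3 → F) with hcdef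
  have hc0' : c ≠ 0 := fun h => hc0 (Subtype.ext h)
  have hsp : ∀ v, ∃ k : F, (A + 1) *ᵥ v = k • c := fun v => by
    obtain ⟨k, hk⟩ := hc ⟨π v, LinearMap.mem_range_self π v⟩
    refine ⟨2 * k, ?_⟩
    have hk' : k • c = π v := congrArg Subtype.val hk
    rw [mul_smul, hk', hπ, Matrix.toLin'_apply, Matrix.smul_mulVec, smul_smul, ← hN]
    rw [show (2 : F) * 3 = 1 by linear_combination h5, one_smul]
  have hAc : A *ᵥ c = c := by
    obtain ⟨v, hv⟩ := c'.2
    rw [hcdef, ← hv, hπ, Matrix.toLin'_apply, Matrix.mulVec_mulVec, Matrix.mul_smul]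
    congr 2
    rw [hN, mul_add, hAA, mul_one, add_comm]
  let w : Fin 3 → Fin 3 → F := ![c, B *ᵥ c, B *ᵥ (B *ᵥ c)]
  set W := Submodule.span F (Set.range w) with hW
  have hcW : c ∈ W := Submodule.subset_span ⟨0, rfl⟩
  have hWA : ∀ v ∈ W, A *ᵥ v ∈ W := fun v hv => by
    obtain ⟨k, hk⟩ := hsp v
    have e : A *ᵥ v = k • c - v := by rw [← hk, Matrix.add_mulVec, Matrix.one_mulVec, add_sub_cancel_right]
    rw [e]
    exact sub_mem (W.smul_mem k hcW) hv
  have hWB : ∀ v ∈ W, B *ᵥ v ∈ W := fun v hv => by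
    have hle : W.map (Matrix.toLin' B) ≤ W := by
      rw [hW, Submodule.map_span, Submodule.span_le]
      rintro _ ⟨_, ⟨i, rfl⟩, rfl⟩
      rw [Matrix.toLin'_apply]
      fin_cases i
      · exact Submodule.subset_span ⟨1, rfl⟩
      · exact Submodule.subset_span ⟨2, rfl⟩
      · exact Submodule.subset_span ⟨0, by
          show c = B *ᵥ (B *ᵥ (B *ᵥ c))
          rw [Matrix.mulVec_mulVec, Matrix.mulVec_mulVec, mul_assoc, hBBB, Matrix.one_mulVec]⟩
    exact hle ⟨v, hv, Matrix.toLin'_apply _ _⟩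
  have htop : W = ⊤ := (hirr W hWA hWB).resolve_left fun h => hc0' (by rwa [h, Submodule.mem_bot] at hcW)
  have hli : LinearIndependent F w :=
    linearIndependent_of_top_le_span_of_card_eq_finrank htop.ge (by simp)
  set M : Matrix (Fin 3) (Fin 3) F := (Matrix.of w)ᵀ with hM
  have hMu : IsUnit M := Matrix.linearIndependent_cols_iff_isUnit.1 hli
  obtain ⟨C, hC⟩ := hMu
  obtain ⟨x, hx⟩ := hsp (B *ᵥ c)
  obtain ⟨y, hy⟩ := hsp (B *ᵥ (B *ᵥ c))
  rw [Matrix.add_mulVec, Matrix.one_mulVec] at hx hy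
  have hcol : ∀ (X : Matrix (Fin 3) (Fin 3) F) (j : Fin 3) (i : Fin 3), (X * M) i j = (X *ᵥ w j) i :=
    fun X j i => by simp [hM, Matrix.mul_apply, Matrix.mulVec, dotProduct]
  have hCA : A * (C : Matrix (Fin 3) (Fin 3) F) = (C : Matrix (Fin 3) (Fin 3) F) * frameA x y := by
    rw [hC]
    ext i j
    rw [hcol]
    have hx' := congrFun hx i
    have hy' := congrFun hy i
    simp only [Pi.add_apply, Pi.smul_apply, smul_eq_mul] at hx' hy'
    fin_cases j
    · simp [w, hAc, hM, frameA, Matrix.mul_apply, Fin.sum_univ_three]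
    · simp [-Matrix.mulVec_mulVec, w, hM, frameA, Matrix.mul_apply, Fin.sum_univ_three]
      linear_combination hx'
    · simp [-Matrix.mulVec_mulVec, w, hM, frameA, Matrix.mul_apply, Fin.sum_univ_three]
      linear_combination hy'
  have hCB : B * (C : Matrix (Fin 3) (Fin 3) F) = (C : Matrix (Fin 3) (Fin 3) F) * frameB := by
    rw [hC]
    ext i j
    rw [hcol]
    fin_cases j
    · simp [w, hM, frameB, Matrix.mul_apply, Fin.sum_univ_three]
    · simp [w, hM, frameB, Matrix.mul_apply, Fin.sum_univ_three]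
    · have e : B *ᵥ (B *ᵥ (B *ᵥ c)) = c := by
        rw [Matrix.mulVec_mulVec, Matrix.mulVec_mulVec, mul_assoc, hBBB, Matrix.one_mulVec]
      simp [w, hM, frameB, Matrix.mul_apply, Fin.sum_univ_three]
      simpa [Matrix.mulVec_mulVec] using congrFun e i
  have htrace : ∀ X Y : Matrix (Fin 3) (Fin 3) F,
      X * (C : Matrix (Fin 3) (Fin 3) F) = (C : Matrix (Fin 3) (Fin 3) F) * Y → X.trace = Y.trace := by
    intro X Y h
    have e : X = (C : Matrix (Fin 3) (Fin 3) F) * Y * ((C⁻¹ : GL (Fin 3) F) : Matrix (Fin 3) (Fin 3) F) := by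
      rw [← h, mul_assoc, Units.mul_inv, mul_one]
    rw [e, Matrix.trace_units_conj]
  have e1 : (A * B).trace = x := by
    rw [htrace (A * B) (frameA x y * frameB) (by rw [mul_assoc, hCB, ← mul_assoc, hCA, mul_assoc])]
    simp [frameA, frameB, Matrix.trace, Matrix.diag, Matrix.mul_apply, Fin.sum_univ_three]
  have e2 : (A * (B * B)).trace = y := by
    rw [htrace (A * (B * B)) (frameA x y * (frameB * frameB)) (by
      rw [mul_assoc, mul_assoc B B, hCB, ← mul_assoc B, hCB, ← mul_assoc A, ← mul_assoc A, hCA]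
      simp only [mul_assoc])]
    simp [frameA, frameB, Matrix.trace, Matrix.diag, Matrix.mul_apply, Fin.sum_univ_three]
  exact ⟨C, by rw [e1, e2]; exact hCA, hCB⟩

end Cfsg.Agent.Mitchell.Residual.UThreeFive
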