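/-
A generating pair of type `(2, 3, 7)` in the simple group of order 168 and how automorphisms can move it.
Main results:
* `exists_pair` : generators `a`, `b` with `a ^ 2 = b ^ 3 = (a b) ^ 7 = 1`, and the involutions `t` with `(t a b) ^ 3 = 1`
* `conj_or_conj_inv` : the two classes of elements of order seven
-/
import Cfsg.Agent.EqLemmas
import Cfsg.Agent.Lib.Linear.SLn
import Cfsg.Agent.Lib.GLOrder.Basic
import Cfsg.Agent.S1006

set_option autoImplicit false

namespace Cfsg.Agent.Mitchell.Residual.UThreeFive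

open Matrix

/-- A three by three table over two elements. -/
abbrev T2 := Fin 3 → Fin 3 → ZMod 2

/-- The product of tables. -/
def mul2 (g h : T2) : T2 := fun i j => g i 0 * h 0 j + g i 1 * h 1 j + g i 2 * h 2 j

/-- The identity table. -/
def one2 : T2 := ![![1, 0, 0], ![0, 1, 0], ![0, 0, 1]]

/-- The involution. -/
def a2 : T2 := ![![1, 1, 0], ![0, 1, 0], ![0, 0, 1]]

/-- The element of order three. -/
def b2 : T2 := ![![0, 0, 1], ![1, 0, 0], ![0, 1, 0]]

/-- Their product, of order seven. -/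
def g2 : T2 := ![![1, 0, 1], ![1, 0, 0], ![0, 1, 0]]

/-- Powers. -/
def pow2 (g : T2) : ℕ → T2
  | 0 => one2
  | n + 1 => mul2 g (pow2 g n)

/-- The conjugates of the involution under the element of order seven. -/
def conj2 (k : Fin 7) : T2 := mul2 (mul2 (pow2 g2 k.1) a2) (pow2 g2 (7 - k.1))

theorem pair_facts : mul2 a2 a2 = one2 ∧ a2 ≠ one2 ∧ mul2 b2 (mul2 b2 b2) = one2 ∧ b2 ≠ one2 ∧
    mul2 a2 b2 = g2 ∧ pow2 g2 7 = one2 ∧ g2 ≠ one2 := by decide +kernel

theorem invol_table : ∀ a b c d e f g h i : ZMod 2,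
    let t : T2 := ![![a, b, c], ![d, e, f], ![g, h, i]]
    mul2 t t = one2 → t = one2 ∨ mul2 (mul2 t g2) (mul2 (mul2 t g2) (mul2 t g2)) ≠ one2 ∨
      ∃ k : Fin 7, t = conj2 k := by decide +kernel

/-- The special linear group. -/
abbrev SL32 := Matrix.SpecialLinearGroup (Fin 3) (ZMod 2)

/-- The table of an element. -/
def tab (x : SL32) : T2 := fun i j => (x : Matrix (Fin 3) (Fin 3) (ZMod 2)) i j

theorem tab_mul (x y : SL32) : tab (x * y) = mul2 (tab x) (tab y) := by
  funext i j
  simp [tab, mul2, Matrix.mul_apply, Fin.sum_univ_three]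

theorem tab_one : tab 1 = one2 := by
  funext i j
  fin_cases i <;> fin_cases j <;> simp [tab, one2]

theorem tab_pow (x : SL32) : ∀ n : ℕ, tab (x ^ n) = pow2 (tab x) n
  | 0 => by rw [pow_zero, tab_one]; rfl
  | n + 1 => by rw [pow_succ', tab_mul, tab_pow x n]; rfl

theorem tab_injective : Function.Injective tab := fun x y h =>
  Subtype.ext (Matrix.ext fun i j => congrFun (congrFun h i) j)

theorem exists_tab (t : T2) (h : Matrix.det (Matrix.of t) = 1) : ∃ x : SL32, tab x = t :=
  ⟨⟨Matrix.of t, h⟩, rfl⟩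

theorem natCard_psl : Nat.card (Matrix.ProjectiveSpecialLinearGroup (Fin 3) (ZMod 2)) = 168 := by
  rw [GLOrder.card_PSL, GLOrder.card_SL, Nat.card_zmod, Fintype.card_fin]; decide

theorem mk_bijective : Function.Bijective (QuotientGroup.mk' (Subgroup.center SL32)) :=
  (Nat.bijective_iff_surjective_and_card _).2 ⟨QuotientGroup.mk'_surjective _, by
    rw [GLOrder.card_SL, Nat.card_zmod]
    exact Eq.trans (by decide) natCard_psl.symm⟩

/-- The same group, seen as matrices. -/
noncomputable def toSL {G : Type*} [Group G] (e : G ≃* Matrix.ProjectiveSpecialLinearGroup (Fin 3) (ZMod 2)) :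
    G ≃* SL32 :=
  e.trans (MulEquiv.ofBijective _ mk_bijective).symm

theorem simple_psl : IsSimpleGroup (Matrix.ProjectiveSpecialLinearGroup (Fin 3) (ZMod 2)) :=
  Linear.isSimpleGroup_psl (by simp)

variable {G : Type*} [Group G]

/-- A subgroup of a simple group of order 168 with order divisible by 42 is everything. -/
theorem eq_top_of_dvd [IsSimpleGroup G] (h : Nat.card G = 168) {K : Subgroup G} (hK : 42 ∣ Nat.card K) :
    K = ⊤ := by
  haveI : Finite G := Nat.finite_of_card_ne_zero (by omega)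
  by_contra hne
  have hcore : K.normalCore = ⊥ :=
    (Subgroup.Normal.eq_bot_or_eq_top (inferInstance : K.normalCore.Normal)).resolve_right fun ht =>
      hne (top_le_iff.1 (ht ▸ K.normalCore_le))
  have hinj : Function.Injective (MulAction.toPermHom G (G ⧸ K)) := by
    rw [← MonoidHom.ker_eq_bot_iff, ← Subgroup.normalCore_eq_ker, hcore]
  haveI : Finite (G ⧸ K) := inferInstance
  have hd := Subgroup.card_dvd_of_injective _ hinj
  rw [Nat.card_perm, h, ← Subgroup.index_eq_card] at hd
  have hi : K.index ∣ 4 := by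
    have h1 := K.card_mul_index
    rw [h] at h1
    obtain ⟨j, hj⟩ := hK
    rw [hj, mul_assoc] at h1
    exact Dvd.intro_left j (by omega)
  have hle : K.index ≤ 4 := Nat.le_of_dvd (by norm_num) hi
  have h24 : Nat.factorial K.index ∣ 24 := (Nat.factorial_dvd_factorial hle).trans (by decide)
  exact absurd (hd.trans h24) (by norm_num)

/-- **The generating pair**, with the involutions carrying the product to order three. -/
theorem exists_pair (e : G ≃* Matrix.ProjectiveSpecialLinearGroup (Fin 3) (ZMod 2)) :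
    ∃ a b : G, a ^ 2 = 1 ∧ a ≠ 1 ∧ b ^ 3 = 1 ∧ b ≠ 1 ∧ (a * b) ^ 7 = 1 ∧ a * b ≠ 1 ∧
      Subgroup.closure ({a, b} : Set G) = ⊤ ∧
      ∀ t : G, t ^ 2 = 1 → t ≠ 1 → (t * (a * b)) ^ 3 = 1 →
        ∃ k : ℕ, t = (a * b) ^ k * a * ((a * b) ^ k)⁻¹ := by
  obtain ⟨haa, ha1, hbb, hb1, hab, hg7, hg1⟩ := pair_facts
  let f := toSL e
  obtain ⟨A, hA⟩ := exists_tab a2 (by rw [Matrix.det_fin_three]; decide)
  obtain ⟨B, hB⟩ := exists_tab b2 (by rw [Matrix.det_fin_three]; decide)
  have hA2 : A ^ 2 = 1 := tab_injective (by rw [pow_two, tab_mul, hA, haa, tab_one])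
  have hB3 : B ^ 3 = 1 := tab_injective (by
    rw [pow_succ', pow_two, tab_mul, tab_mul, hB, hbb, tab_one])
  have hAB : (A * B) ^ 7 = 1 := tab_injective (by rw [tab_pow, tab_mul, hA, hB, hab, hg7, tab_one])
  have hA1 : A ≠ 1 := fun h => ha1 (by rw [← hA, h, tab_one])
  have hB1 : B ≠ 1 := fun h => hb1 (by rw [← hB, h, tab_one])
  have hAB1 : A * B ≠ 1 := fun h => hg1 (by rw [← hab, ← hA, ← hB, ← tab_mul, h, tab_one])
  have hf : ∀ {x : SL32}, x ≠ 1 → f.symm x ≠ 1 := fun hx h =>
    hx (f.symm.injective (h.trans (map_one f.symm).symm))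
  set a := f.symm A
  set b := f.symm B
  have hab7 : (a * b) ^ 7 = 1 := by rw [← map_mul, ← map_pow, hAB, map_one]
  refine ⟨a, b, by rw [← map_pow, hA2, map_one], hf hA1, by rw [← map_pow, hB3, map_one], hf hB1, hab7,
    by rw [← map_mul]; exact hf hAB1, ?_, ?_⟩
  · haveI : IsSimpleGroup (Matrix.ProjectiveSpecialLinearGroup (Fin 3) (ZMod 2)) := simple_psl
    haveI : IsSimpleGroup G := e.isSimpleGroup
    have h168 : Nat.card G = 168 := (Nat.card_congr e.toEquiv).trans natCard_psl
    haveI : Finite G := Nat.finite_of_card_ne_zero (by omega)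
    refine eq_top_of_dvd h168 ?_
    have key : ∀ (x : G) (p : ℕ), p.Prime → x ^ p = 1 → x ≠ 1 → x ∈ Subgroup.closure ({a, b} : Set G) →
        p ∣ Nat.card (Subgroup.closure ({a, b} : Set G)) := fun x p hp hx hx1 hm => by
      haveI := Fact.mk hp
      rw [← orderOf_eq_prime hx hx1]
      exact Subgroup.orderOf_dvd_natCard _ hm
    have ha : a ∈ Subgroup.closure ({a, b} : Set G) := Subgroup.subset_closure (by simp)
    have hb : b ∈ Subgroup.closure ({a, b} : Set G) := Subgroup.subset_closure (by simp)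
    exact Nat.Coprime.mul_dvd_of_dvd_of_dvd (m := 6) (n := 7) (by norm_num)
      (Nat.Coprime.mul_dvd_of_dvd_of_dvd (m := 2) (n := 3) (by norm_num)
        (key a 2 Nat.prime_two (by rw [← map_pow, hA2, map_one]) (hf hA1) ha)
        (key b 3 Nat.prime_three (by rw [← map_pow, hB3, map_one]) (hf hB1) hb))
      (key (a * b) 7 (by norm_num) hab7 (by rw [← map_mul]; exact hf hAB1) (mul_mem ha hb))
  · intro t ht ht1 ht3
    have hT : f t * f t = 1 := by rw [← map_mul, ← pow_two, ht, map_one]
    have e1 : f (a * b) = A * B := by rw [map_mul, f.apply_symm_apply, f.apply_symm_apply]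
    have hg : tab (A * B) = g2 := by rw [tab_mul, hA, hB, hab]
    have hT3 : mul2 (mul2 (tab (f t)) g2) (mul2 (mul2 (tab (f t)) g2) (mul2 (tab (f t)) g2)) = one2 := by
      have e2 : tab (f (t * (a * b))) = mul2 (tab (f t)) g2 := by rw [f.map_mul t (a * b), e1, tab_mul, hg]
      generalize t * (a * b) = u at ht3 e2
      have h3 := congrArg (fun x => tab (f x)) ht3
      simp only [pow_succ', pow_zero, mul_one, map_mul, tab_mul, map_one, tab_one, e2] at h3
      exact h3
    have hspell : tab (f t) = ![![tab (f t) 0 0, tab (f t) 0 1, tab (f t) 0 2],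
        ![tab (f t) 1 0, tab (f t) 1 1, tab (f t) 1 2], ![tab (f t) 2 0, tab (f t) 2 1, tab (f t) 2 2]] := by
      funext i j; fin_cases i <;> fin_cases j <;> rfl
    have hsq : mul2 (tab (f t)) (tab (f t)) = one2 := by rw [← tab_mul, hT, tab_one]
    have h := invol_table (tab (f t) 0 0) (tab (f t) 0 1) (tab (f t) 0 2) (tab (f t) 1 0) (tab (f t) 1 1)
      (tab (f t) 1 2) (tab (f t) 2 0) (tab (f t) 2 1) (tab (f t) 2 2)
    simp only [← hspell] at h
    rcases h hsq with h1 | h1 | ⟨k, hk⟩
    · exact absurd (f.injective (tab_injective (h1.trans tab_one.symm) |>.trans (map_one f).symm)) ht1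
    · exact absurd hT3 h1
    · refine ⟨k.1, f.injective ?_⟩
      have hinv : ((A * B) ^ k.1)⁻¹ = (A * B) ^ (7 - k.1) := by
        rw [inv_eq_iff_mul_eq_one, ← pow_add, Nat.add_sub_cancel' k.2.le, hAB]
      rw [map_mul, map_mul, map_inv, map_pow, e1, show f a = A from f.apply_symm_apply A, hinv]
      apply tab_injective
      rw [hk, tab_mul, tab_mul, tab_pow, tab_pow, hg, hA]
      rfl

/-- The elements of order seven form the class of any one of them and the class of its inverse. -/
theorem conj_or_conj_inv [Finite G] [IsSimpleGroup G] (h : Nat.card G = 168) {x y : G}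
    (hx : orderOf x = 7) (hy : orderOf y = 7) : IsConj x y ∨ IsConj x⁻¹ y := by
  classical
  obtain ⟨-, -, -, -, h48, hcls⟩ := S1006.result h
  haveI := Fintype.ofFinite G
  obtain ⟨hx24, hnc⟩ := hcls x hx
  have hxi : orderOf x⁻¹ = 7 := by rw [orderOf_inv, hx]
  obtain ⟨hi24, -⟩ := hcls x⁻¹ hxi
  rw [Nat.card_eq_fintype_card, Fintype.card_subtype] at h48 hx24 hi24
  set S := Finset.univ.filter fun g : G => orderOf g = 7
  set C := Finset.univ.filter fun g : G => IsConj x g
  set D := Finset.univ.filter fun g : G => IsConj x⁻¹ g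
  have hsub : C ∪ D ⊆ S := by
    intro g hg
    simp only [C, D, S, Finset.mem_union, Finset.mem_filter, Finset.mem_univ, true_and] at hg ⊢
    rcases hg with hg | hg <;> obtain ⟨u, rfl⟩ := isConj_iff.1 hg
    · exact (orderOf_injective (MulAut.conj u).toMonoidHom (MulAut.conj u).injective x).trans hx
    · exact (orderOf_injective (MulAut.conj u).toMonoidHom (MulAut.conj u).injective x⁻¹).trans hxi
  have hdis : Disjoint C D := by
    rw [Finset.disjoint_left]
    intro g hg hg'
    simp only [C, D, Finset.mem_filter, Finset.mem_univ, true_and] at hg hg'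
    exact hnc (hg.trans hg'.symm)
  have heq : C ∪ D = S := Finset.eq_of_subset_of_card_le hsub (by
    rw [Finset.card_union_of_disjoint hdis, hx24, hi24, h48])
  have hyS : y ∈ C ∪ D := by rw [heq]; simp [S, hy]
  simpa [C, D] using hyS

end Cfsg.Agent.Mitchell.Residual.UThreeFive
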