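/-
Table matrices in the stabiliser of the 105 points: a copy of the group of order 168 by generators of type `(2, 3, 7)`.
Main results: `fwd_eq`, `bwd_eq`, `root_cases`, `five_facts`, `b_facts`.
-/
import Cfsg.Agent.Lib.Aschbacher.SU3Table

set_option autoImplicit false

namespace Cfsg.Agent.Mitchell.Residual.UThreeFive

open Cfsg.Agent.Aschbacher.SU3

/-- The element of order three. -/
def bT : Fin 3 → Fin 3 → K25 :=
  ![![⟨1, 2⟩, ⟨1, 4⟩, ⟨4, 1⟩], ![⟨0, 0⟩, ⟨1, 3⟩, ⟨1, 3⟩], ![⟨0, 1⟩, ⟨2, 0⟩, ⟨3, 0⟩]]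

/-- The basis made of the centre of the involution and its images. -/
def fwdT : Fin 3 → Fin 3 → K25 :=
  ![![⟨1, 0⟩, ⟨1, 2⟩, ⟨1, 2⟩], ![⟨1, 0⟩, ⟨2, 1⟩, ⟨4, 3⟩], ![⟨1, 0⟩, ⟨0, 1⟩, ⟨3, 1⟩]]

/-- The same basis for the inverse of the element of order three. -/
def bwdT : Fin 3 → Fin 3 → K25 := fun i => ![fwdT i 0, fwdT i 2, fwdT i 1]

/-- An element of order five. -/
def fiveT : Fin 3 → Fin 3 → K25 :=
  ![![⟨1, 0⟩, ⟨1, 0⟩, ⟨2, 0⟩], ![⟨4, 0⟩, ⟨3, 0⟩, ⟨4, 0⟩], ![⟨3, 0⟩, ⟨4, 0⟩, ⟨4, 0⟩]]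

/-- The trace of the product. -/
def rootT : K25 := ⟨2, 1⟩

/-- The involution in normal form. -/
def nfA (x : K25) : Fin 3 → Fin 3 → K25 :=
  ![![1, x, K25.conj x], ![0, ⟨4, 0⟩, 0], ![0, 0, ⟨4, 0⟩]]

/-- The element of order three in normal form. -/
def nfB : Fin 3 → Fin 3 → K25 := ![![0, 0, 1], ![1, 0, 0], ![0, 1, 0]]

/-- The determinant. -/
def det3 (g : Fin 3 → Fin 3 → K25) : K25 :=
  g 0 0 * g 1 1 * g 2 2 + g 0 1 * g 1 2 * g 2 0 + g 0 2 * g 1 0 * g 2 1 +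
    ⟨4, 0⟩ * (g 0 2 * g 1 1 * g 2 0 + g 0 0 * g 1 2 * g 2 1 + g 0 1 * g 1 0 * g 2 2)

theorem b_facts : isSU bT ∧ Keeps (phiA K25.conj) bT := by decide +kernel

theorem five_facts : isSU fiveT ∧ Keeps (phiA K25.conj) fiveT ∧
    (∀ i j, mpow fiveT 5 i j = mpow fiveT 0 i j) ∧ ¬ ∀ i j, fiveT i j = mpow fiveT 0 i j := by decide +kernel

theorem fwd_eq : (∀ i j, mm aW fwdT i j = mm fwdT (nfA rootT) i j) ∧
    (∀ i j, mm bT fwdT i j = mm fwdT nfB i j) ∧ det3 fwdT ≠ 0 := by decide +kernel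

theorem bwd_eq : (∀ i j, mm aW bwdT i j = mm bwdT (nfA (K25.conj rootT)) i j) ∧
    (∀ i j, mm (mm bT bT) bwdT i j = mm bwdT nfB i j) ∧ det3 bwdT ≠ 0 := by decide +kernel

theorem root_cases : ∀ x : K25, (∀ i j, mpow (mm (nfA x) nfB) 7 i j = mpow nfB 0 i j) →
    (x = rootT ∨ x = K25.conj rootT) ∧ K25.conj x ≠ x := by decide +kernel

end Cfsg.Agent.Mitchell.Residual.UThreeFive
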