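/-
The group of order 168 in SU₃(5) lies in the stabiliser of 105 points, so is not maximal.
Main results: `no_psl_seven_five`.
-/
import Cfsg.Agent.Lib.Mitchell.Residual.UThreeFive.Model
import Cfsg.Agent.Lib.Mitchell.Residual.UThreeFive.Table
import Cfsg.Agent.Lib.Mitchell.Residual.UThreeFive.Frame
import Cfsg.Agent.Lib.Aschbacher.SU3Points
import Cfsg.Agent.Lib.Unitary.Field

set_option autoImplicit false
set_option linter.style.haveILetI false

namespace Cfsg.Agent.Mitchell.Residual.UThreeFive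

open Matrix Cfsg.Agent.Aschbacher.SU3 Cfsg.Agent.PrimeDim

universe u

variable {F : Type u} [Field F]

section Bridge

variable (S : K25.Sem F)

theorem evM_congr {g g' : Fin 3 → Fin 3 → K25} (h : ∀ i j, g i j = g' i j) : evM S g = evM S g' := by
  rw [show g = g' from funext fun i => funext fun j => h i j]

theorem evM_mpow (g : Fin 3 → Fin 3 → K25) : ∀ n : ℕ, evM S (mpow g n) = evM S g ^ n
  | 0 => by rw [mpow, evM_id, pow_zero]
  | n + 1 => by rw [mpow, ← evM_mul, evM_mpow g n, pow_succ]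

theorem ev_neg_one : S.ev ⟨4, 0⟩ = -1 := by
  haveI := S.charP
  rw [show (⟨4, 0⟩ : K25) = K25.num 4 from rfl, ev_num, map_ofNat]
  linear_combination S.five

theorem evM_nfA (x : K25) : evM S (nfA x) = frameA (S.ev x) (S.ev x ^ 5) := by
  ext i j
  fin_cases i <;> fin_cases j <;> simp [evM, nfA, frameA, ev_zero, ev_one, ev_conj, ev_neg_one]

theorem evM_nfB : evM S nfB = (frameB : Matrix (Fin 3) (Fin 3) F) := by
  ext i j
  fin_cases i <;> fin_cases j <;> simp [evM, nfB, frameB, ev_zero, ev_one]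

theorem det_evM (g : Fin 3 → Fin 3 → K25) : (evM S g).det = S.ev (det3 g) := by
  rw [Matrix.det_fin_three]
  simp only [evM, Matrix.of_apply, det3, ev_add, ev_mul, ev_neg_one]
  ring

variable [Fintype F] (hF : Fintype.card F = 5 ^ 2)
include hF

local notation "Γ" => Cfsg.GU 3 F 5 ⊓ Geo.specialLinear (Fin 3) F
local notation "K" => Γ ⊓ Aschbacher.SU3.stab (phiA fun x : F => x ^ 5)

/-- A table matrix of the stabiliser as a group element. -/
theorem exists_keep {g : Fin 3 → Fin 3 → K25} (hg : isSU g) (hk : Keeps (phiA K25.conj) g) :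
    ∃ G : GL (Fin 3) F, (G : Matrix (Fin 3) (Fin 3) F) = evM S g ∧ G ∈ K := by
  obtain ⟨G, hG, hGm⟩ := exists_su S hF hg
  exact ⟨G, hG, hGm, ev_mem_stab S hF (phiA_ev S) (phiA_smul hF) hk hG⟩

/-- **Both normal forms occur inside the stabiliser.** -/
theorem exists_model {u : K25} (hu : u = rootT ∨ u = K25.conj rootT) :
    ∃ a b T : GL (Fin 3) F, a ∈ K ∧ b ∈ K ∧
      (a : Matrix (Fin 3) (Fin 3) F) * (T : Matrix (Fin 3) (Fin 3) F) =
        (T : Matrix (Fin 3) (Fin 3) F) * frameA (S.ev u) (S.ev u ^ 5) ∧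
      (b : Matrix (Fin 3) (Fin 3) F) * (T : Matrix (Fin 3) (Fin 3) F) = (T : Matrix (Fin 3) (Fin 3) F) * frameB := by
  obtain ⟨a, ha, haK⟩ := exists_keep S hF su_aW keep_A_a
  obtain ⟨b, hb, hbK⟩ := exists_keep S hF b_facts.1 b_facts.2
  have hdet : ∀ g : Fin 3 → Fin 3 → K25, det3 g ≠ 0 → (evM S g).det ≠ 0 := fun g hg => by
    rw [det_evM, ← ev_zero S]
    exact fun h => hg (ev_injective S h)
  rcases hu with rfl | rfl
  · obtain ⟨h1, h2, h3⟩ := fwd_eq
    refine ⟨a, b, Matrix.GeneralLinearGroup.mkOfDetNeZero (evM S fwdT) (hdet _ h3), haK, hbK, ?_, ?_⟩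
    · show (a : Matrix (Fin 3) (Fin 3) F) * evM S fwdT = evM S fwdT * _
      rw [ha, ← evM_nfA, evM_mul, evM_mul, evM_congr S h1]
    · show (b : Matrix (Fin 3) (Fin 3) F) * evM S fwdT = evM S fwdT * _
      rw [hb, ← evM_nfB S, evM_mul, evM_mul, evM_congr S h2]
  · obtain ⟨h1, h2, h3⟩ := bwd_eq
    refine ⟨a, b * b, Matrix.GeneralLinearGroup.mkOfDetNeZero (evM S bwdT) (hdet _ h3), haK,
      mul_mem hbK hbK, ?_, ?_⟩
    · show (a : Matrix (Fin 3) (Fin 3) F) * evM S bwdT = evM S bwdT * _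
      rw [ha, ← evM_nfA, evM_mul, evM_mul, evM_congr S h1]
    · show ((b * b : GL (Fin 3) F) : Matrix (Fin 3) (Fin 3) F) * evM S bwdT = evM S bwdT * _
      rw [Units.val_mul, hb, ← evM_nfB S, evM_mul, evM_mul, evM_mul, evM_congr S h2]

/-- The trace of a product of order seven in normal form. -/
theorem root_of_pow {x : F} (h : (frameA x (x ^ 5) * frameB) ^ 7 = 1) :
    ∃ u : K25, S.ev u = x ∧ (u = rootT ∨ u = K25.conj rootT) ∧ x ^ 5 ≠ x := by
  obtain ⟨u, rfl⟩ := ev_surjective S hF x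
  rw [← evM_nfA, ← evM_nfB S, evM_mul, ← evM_mpow, ← evM_id S] at h
  obtain ⟨h1, h2⟩ := root_cases u fun i j => ev_injective S (congrFun (congrFun h i) j)
  refine ⟨u, rfl, h1, ?_⟩
  rw [← ev_conj]
  exact fun e => h2 (ev_injective S e)

end Bridge

/-- A commutative Sylow three-subgroup, hence no scalars, over a quotient with `9 ∤ |Q|`. -/
theorem zz_eq_bot_of_nine [Finite F] {P : Subgroup (GL (Fin 3) F)} (R : Res P)
    (h9 : ¬ 9 ∣ Nat.card (Quo P)) : zz P = ⊥ := by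
  haveI : Fact (Nat.Prime 3) := ⟨Nat.prime_three⟩
  haveI : Nonempty (Sylow 3 ↥P) := Sylow.nonempty
  obtain T : Sylow 3 ↥P := Classical.arbitrary _
  refine zz_eq_bot_of_comm_sylow R.sl R.perfect T ?_
  let f : ↥(T : Subgroup ↥P) →* ↥((T : Subgroup ↥P).map (qq P)) := (qq P).subgroupMap (T : Subgroup ↥P)
  obtain ⟨i, hi⟩ := IsPGroup.iff_card.1 (T.isPGroup'.map (qq P))
  have hi1 : i ≤ 1 := by
    by_contra hlt
    exact h9 ((pow_dvd_pow 3 (show 2 ≤ i by omega)).trans (hi ▸ Subgroup.card_subgroup_dvd_card _))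
  haveI : IsCyclic ↥((T : Subgroup ↥P).map (qq P)) :=
    isCyclic_of_card_dvd_prime (p := 3) (hi ▸ pow_dvd_pow 3 hi1)
  refine ⟨⟨commutative_of_cyclic_center_quotient f fun y hy => ?_⟩⟩
  have hyz : (y : ↥P) ∈ zz P := qq_eq_one.1 (congrArg Subtype.val (MonoidHom.mem_ker.1 hy))
  exact Subgroup.mem_center_iff.2 fun g => Subtype.ext (zz_central hyz (g : ↥P))

variable [Fintype F]

/-- In a unitary group the trace of the inverse is the conjugate of the trace. -/
theorem trace_inv_GU (hF : Fintype.card F = 5 ^ 2) {g : GL (Fin 3) F} (hg : g ∈ Cfsg.GU 3 F 5) :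
    ((g⁻¹ : GL (Fin 3) F) : Matrix (Fin 3) (Fin 3) F).trace = (g : Matrix (Fin 3) (Fin 3) F).trace ^ 5 := by
  have h := gram_of_mem_GU hF hg
  rw [mul_one] at h
  have h' : ((g : Matrix (Fin 3) (Fin 3) F).map (Unitary.conjHom hF))ᵀ * (g : Matrix (Fin 3) (Fin 3) F) = 1 := by
    simpa [Matrix.transpose_mul] using congrArg Matrix.transpose h
  rw [show ((g⁻¹ : GL (Fin 3) F) : Matrix (Fin 3) (Fin 3) F) =
      ((g : Matrix (Fin 3) (Fin 3) F).map (Unitary.conjHom hF))ᵀ by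
    conv_lhs => rw [← one_mul ((g⁻¹ : GL (Fin 3) F) : Matrix (Fin 3) (Fin 3) F), ← h', mul_assoc,
      Units.mul_inv, mul_one]]
  rw [Matrix.trace_transpose, ← conjHom_apply' hF, Matrix.trace, Matrix.trace, map_sum]
  rfl

/-- A conjugator between two unitary representations of an absolutely irreducible group is unitary up to a scalar. -/
theorem exists_unitary_conj (hF : Fintype.card F = 5 ^ 2) {P : Subgroup (GL (Fin 3) F)} (R : Res P)
    (hPU : P ≤ Cfsg.GU 3 F 5) (T : GL (Fin 3) F) (hT : ∀ x ∈ P, T * x * T⁻¹ ∈ Cfsg.GU 3 F 5) :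
    ∃ T₁ ∈ Cfsg.GU 3 F 5, ∀ x : GL (Fin 3) F, T₁ * x * T₁⁻¹ = T * x * T⁻¹ := by
  set σ := Unitary.conjHom hF with hσ
  obtain ⟨c, hc⟩ := invariant_unique R.absIrred.2 σ (G := 1)
    (G' := (T : Matrix (Fin 3) (Fin 3) F)ᵀ * (T : Matrix (Fin 3) (Fin 3) F).map σ) (by simp)
    (fun x hx => gram_of_mem_GU hF (hPU hx)) (fun x hx => by
      have hg := gram_of_mem_GU hF (hT x hx)
      rw [mul_one, ← hσ] at hg
      set M := ((T * x * T⁻¹ : GL (Fin 3) F) : Matrix (Fin 3) (Fin 3) F) with hM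
      have hTx : M * (T : Matrix (Fin 3) (Fin 3) F) =
          (T : Matrix (Fin 3) (Fin 3) F) * (x : Matrix (Fin 3) (Fin 3) F) := by
        rw [hM, ← Units.val_mul, ← Units.val_mul, inv_mul_cancel_right]
      calc (x : Matrix (Fin 3) (Fin 3) F)ᵀ *
            ((T : Matrix (Fin 3) (Fin 3) F)ᵀ * (T : Matrix (Fin 3) (Fin 3) F).map σ) *
              (x : Matrix (Fin 3) (Fin 3) F).map σ
          = ((T : Matrix (Fin 3) (Fin 3) F) * (x : Matrix (Fin 3) (Fin 3) F))ᵀ *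
              ((T : Matrix (Fin 3) (Fin 3) F) * (x : Matrix (Fin 3) (Fin 3) F)).map σ := by
            rw [Matrix.transpose_mul, Matrix.map_mul]; simp only [mul_assoc]
        _ = (T : Matrix (Fin 3) (Fin 3) F)ᵀ * (Mᵀ * M.map σ) * (T : Matrix (Fin 3) (Fin 3) F).map σ := by
            rw [← hTx, Matrix.transpose_mul, Matrix.map_mul]; simp only [mul_assoc]
        _ = _ := by rw [hg, mul_one])
  have hc5 : c ^ 5 = c := by
    have hinv : ∀ a : F, (a ^ 5) ^ 5 = a := fun a => Unitary.pow_q_pow_q hF a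
    have h1 := congrFun (congrFun hc 0) 0
    simp [Matrix.mul_apply, Fin.sum_univ_three, hσ] at h1
    rw [← h1, ← conjHom_apply' hF (_ + _), map_add, map_add, map_mul, map_mul, map_mul]
    simp only [conjHom_apply' hF, hinv]
    ring
  have hc0 : c ≠ 0 := by
    intro h
    have h1 := congrArg Matrix.det hc
    rw [h, zero_smul, Matrix.det_mul, Matrix.det_transpose, Matrix.det_zero] at h1
    · rw [← RingHom.mapMatrix_apply, ← RingHom.map_det] at h1
      rcases mul_eq_zero.1 h1 with h2 | h2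
      · exact (Matrix.GeneralLinearGroup.det T).ne_zero h2
      · exact (Matrix.GeneralLinearGroup.det T).ne_zero ((map_eq_zero σ).1 h2)
  obtain ⟨r, hr⟩ := Unitary.exists_norm_eq hF hc5
  have hr0 : r ≠ 0 := fun h => hc0 (by rw [← hr, h, zero_pow (by norm_num)])
  set z : GL (Fin 3) F := Units.map (Matrix.scalar (Fin 3) : F →+* Matrix (Fin 3) (Fin 3) F).toMonoidHom
    (Units.mk0 r⁻¹ (inv_ne_zero hr0)) with hz
  have hzs : z ∈ Geo.scalars (Fin 3) F := ⟨_, rfl⟩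
  have hzv : (z : Matrix (Fin 3) (Fin 3) F) = r⁻¹ • (1 : Matrix (Fin 3) (Fin 3) F) := by
    simp [hz, Matrix.smul_one_eq_diagonal]
  refine ⟨T * z, ?_, fun x => ?_⟩
  · refine mem_gu_of_gram hF fun i j => ?_
    have h1 : ((T * z : GL (Fin 3) F) : Matrix (Fin 3) (Fin 3) F)ᵀ *
        ((T * z : GL (Fin 3) F) : Matrix (Fin 3) (Fin 3) F).map σ = 1 := by
      rw [Units.val_mul, hzv, Matrix.mul_smul, mul_one, Matrix.transpose_smul,
        Matrix.map_smul' σ r⁻¹ _ (map_mul σ), Matrix.smul_mul, Matrix.mul_smul, hc, smul_smul, smul_smul, hσ,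
        conjHom_apply' hF, ← hr]
      rw [show r⁻¹ * (r⁻¹) ^ 5 * r ^ (5 + 1) = (r⁻¹ * r) ^ 6 by ring, inv_mul_cancel₀ hr0, one_pow, one_smul]
    have h2 := congrFun (congrFun h1 i) j
    rw [Matrix.mul_apply, Matrix.one_apply] at h2
    rw [← h2]
    simp [hσ]
  · rw [_root_.mul_inv_rev, mul_assoc T z x, ← scalars_central hzs x]
    group

/-- **The group of order 168 is no maximal residual subgroup of `SU₃(5)`.** -/
theorem no_psl_seven_five {F : Type*} [Field F] [Fintype F] (hF : Fintype.card F = 5 ^ 2)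
    (H : Subgroup (Matrix.GeneralLinearGroup (Fin 3) F))
    (hH : Cfsg.Geo.IsMaximalIn (Cfsg.GU 3 F 5 ⊓ Cfsg.Geo.specialLinear (Fin 3) F) H)
    (P : Subgroup (Matrix.GeneralLinearGroup (Fin 3) F)) (hP : Cfsg.Geo.IsResidualCore H P)
    (e : (P ⧸ (Cfsg.Geo.scalars (Fin 3) F).subgroupOf P) ≃*
      Matrix.ProjectiveSpecialLinearGroup (Fin 3) (ZMod 2)) : False := by
  classical
  obtain ⟨S⟩ := exists_sem hF
  haveI : CharP F 5 := S.charP
  set Γ : Subgroup (GL (Fin 3) F) := Cfsg.GU 3 F 5 ⊓ Geo.specialLinear (Fin 3) F with hΓ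
  set K : Subgroup (GL (Fin 3) F) := Γ ⊓ Aschbacher.SU3.stab (phiA fun x : F => x ^ 5) with hK
  have hHΓ : H ≤ Γ := hH.1.le
  have hPΓ : P ≤ Γ := hP.le.trans hHΓ
  have R : Res P := res_of_core (hHΓ.trans inf_le_right) hP
  have hcard : Nat.card (Quo P) = 168 := (Nat.card_congr e.toEquiv).trans natCard_psl
  have hbot : zz P = ⊥ := zz_eq_bot_of_nine R (by rw [hcard]; norm_num)
  let ψ : ↥P ≃* Matrix.ProjectiveSpecialLinearGroup (Fin 3) (ZMod 2) :=
    (MulEquiv.ofBijective (qq P) ⟨(MonoidHom.ker_eq_bot_iff _).1 (by rw [QuotientGroup.ker_mk', hbot]),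
      QuotientGroup.mk'_surjective _⟩).trans e
  haveI : IsSimpleGroup (Matrix.ProjectiveSpecialLinearGroup (Fin 3) (ZMod 2)) := simple_psl
  haveI : IsSimpleGroup ↥P := ψ.isSimpleGroup
  have h168 : Nat.card ↥P = 168 := (Nat.card_congr ψ.toEquiv).trans natCard_psl
  obtain ⟨a, b, ha, ha1, hb, hb1, hg7, hg1, hgen, hinv⟩ := exists_pair ψ
  set g := a * b with hg
  -- generators generate
  have hclosure : ∀ L : Subgroup (GL (Fin 3) F), (a : GL (Fin 3) F) ∈ L → (b : GL (Fin 3) F) ∈ L →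
      ∀ x : ↥P, (x : GL (Fin 3) F) ∈ L := fun L h1 h2 x => by
    have : Subgroup.closure ({a, b} : Set ↥P) ≤ L.comap P.subtype :=
      (Subgroup.closure_le _).2 (Set.insert_subset h1 (Set.singleton_subset_iff.2 h2))
    exact this (hgen ▸ Subgroup.mem_top x)
  have hcoe : ∀ {x : ↥P}, x ≠ 1 → (x : GL (Fin 3) F) ≠ 1 := fun hx h => hx (Subtype.ext h)
  -- irreducibility
  have hirr : ∀ W : Submodule F (Fin 3 → F),
      (∀ v ∈ W, ((a : GL (Fin 3) F) : Matrix (Fin 3) (Fin 3) F) *ᵥ v ∈ W) →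
      (∀ v ∈ W, ((b : GL (Fin 3) F) : Matrix (Fin 3) (Fin 3) F) *ᵥ v ∈ W) → W = ⊥ ∨ W = ⊤ := by
    intro W hWa hWb
    refine R.absIrred.1 W ?_
    rintro _ ⟨x, hx, rfl⟩
    refine (PrimeDim.mapsTo_iff_mulVec _ _).2 ?_
    have key : ∀ y : ↥P, ∀ v ∈ W, ((y : GL (Fin 3) F) : Matrix (Fin 3) (Fin 3) F) *ᵥ v ∈ W := by
      intro y
      have hy : y ∈ Subgroup.closure ({a, b} : Set ↥P) := hgen ▸ Subgroup.mem_top y
      haveI : Finite ↥P := Nat.finite_of_card_ne_zero (by omega)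
      induction hy using Subgroup.closure_induction with
      | mem z hz =>
        rcases hz with rfl | hz
        · exact hWa
        · rw [Set.mem_singleton_iff.1 hz]; exact hWb
      | one => intro v hv; simpa using hv
      | mul z w _ _ hz hw =>
        intro v hv
        rw [Subgroup.coe_mul, Units.val_mul, ← Matrix.mulVec_mulVec]
        exact hz _ (hw v hv)
      | inv z _ hz =>
        intro v hv
        have hpow : z⁻¹ = z ^ (orderOf z - 1) := by
          rw [inv_eq_iff_mul_eq_one, ← pow_succ', Nat.sub_add_cancel (orderOf_pos z), pow_orderOf_eq_one]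
        rw [hpow, SubgroupClass.coe_pow, Units.val_pow_eq_pow_val]
        clear hpow
        induction orderOf z - 1 with
        | zero => simpa using hv
        | succ n ih => rw [pow_succ', ← Matrix.mulVec_mulVec]; exact hz _ ih
    exact key ⟨x, hx⟩
  obtain ⟨C, hCa, hCb⟩ := exists_frame (a : GL (Fin 3) F) (b : GL (Fin 3) F) (R.det_eq_one a)
    (by rw [← Subgroup.coe_mul, ← pow_two, ha]; rfl) (hcoe ha1)
    (by rw [← Subgroup.coe_mul, ← Subgroup.coe_mul, ← pow_two, ← pow_succ', hb]; rfl) hirr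
  -- the two traces
  set x := trc P g with hx
  have hx1 : ((a : GL (Fin 3) F) : Matrix (Fin 3) (Fin 3) F) * ((b : GL (Fin 3) F) : Matrix (Fin 3) (Fin 3) F)
      = ((g : GL (Fin 3) F) : Matrix (Fin 3) (Fin 3) F) := by rw [hg, Subgroup.coe_mul, Units.val_mul]
  have hinvtr : trc P g⁻¹ = x ^ 5 := trace_inv_GU hF (hPΓ g.2).1
  have hy : (((a : GL (Fin 3) F) : Matrix (Fin 3) (Fin 3) F) * (((b : GL (Fin 3) F) : Matrix (Fin 3) (Fin 3) F) *
      ((b : GL (Fin 3) F) : Matrix (Fin 3) (Fin 3) F))).trace = x ^ 5 := by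
    rw [← hinvtr, ← trc_conj a g⁻¹]
    have e1 : a * g⁻¹ * a⁻¹ = a * (b * b) := by
      have hb' : b⁻¹ = b * b := by
        rw [inv_eq_iff_mul_eq_one, ← pow_two, ← pow_succ', hb]
      rw [hg, _root_.mul_inv_rev, hb']
      group
      rw [show (-2 : ℤ) = -((2 : ℕ) : ℤ) from rfl, _root_.zpow_neg, zpow_natCast, ha]
      group
    rw [e1]
    rfl
  rw [hx1, hy] at hCa
  have hgC : ((g : GL (Fin 3) F) : Matrix (Fin 3) (Fin 3) F) * (C : Matrix (Fin 3) (Fin 3) F) =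
      (C : Matrix (Fin 3) (Fin 3) F) * (frameA x (x ^ 5) * frameB) := by
    rw [← hx1, mul_assoc, hCb, ← mul_assoc, hCa, mul_assoc]; rfl
  have h7 : (frameA x (x ^ 5) * frameB : Matrix (Fin 3) (Fin 3) F) ^ 7 = 1 := by
    have h := (SemiconjBy.pow_right (show SemiconjBy (C : Matrix (Fin 3) (Fin 3) F)
      (frameA x (x ^ 5) * frameB) ((g : GL (Fin 3) F) : Matrix (Fin 3) (Fin 3) F) from hgC.symm) 7).eq
    rw [← Units.val_pow_eq_pow_val, ← SubgroupClass.coe_pow, hg7, OneMemClass.coe_one, Units.val_one,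
      one_mul] at h
    exact C.isUnit.mul_left_cancel (h.trans (mul_one _).symm)
  obtain ⟨u, hu, huroot, hx5⟩ := root_of_pow S hF h7
  obtain ⟨a', b', T, haK, hbK, hTa, hTb⟩ := exists_model S hF huroot
  rw [hu] at hTa
  -- conjugate into the stabiliser
  set T₀ := T * C⁻¹ with hT₀
  have hconj : ∀ {p p' : GL (Fin 3) F} {N : Matrix (Fin 3) (Fin 3) F},
      (p : Matrix (Fin 3) (Fin 3) F) * (C : Matrix (Fin 3) (Fin 3) F) = (C : Matrix (Fin 3) (Fin 3) F) * N →
      (p' : Matrix (Fin 3) (Fin 3) F) * (T : Matrix (Fin 3) (Fin 3) F) = (T : Matrix (Fin 3) (Fin 3) F) * N →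
      T₀ * p * T₀⁻¹ = p' := by
    intro p p' N h1 h2
    rw [mul_inv_eq_iff_eq_mul, hT₀, ← mul_right_cancel_iff (a := C)]
    ext1
    simp only [mul_assoc, inv_mul_cancel, mul_one, Units.val_mul]
    rw [h1, Units.inv_mul_cancel_left, h2]
  have hPK : ∀ p ∈ P, T₀ * p * T₀⁻¹ ∈ K := fun p hp =>
    hclosure (K.comap (MulAut.conj T₀).toMonoidHom)
      (by show T₀ * _ * T₀⁻¹ ∈ K; rw [hconj hCa hTa]; exact haK)
      (by show T₀ * _ * T₀⁻¹ ∈ K; rw [hconj hCb hTb]; exact hbK) ⟨p, hp⟩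
  obtain ⟨T₁, hT₁U, hT₁⟩ := exists_unitary_conj hF R (fun p hp => (hPΓ hp).1) T₀
    (fun p hp => (hPK p hp).1.1)
  -- the normaliser is `P` times scalars
  have hsplit : ∀ h ∈ H, ∃ p ∈ P, ∃ z ∈ Geo.scalars (Fin 3) F, h = p * z := by
    intro h hh
    let g' : ↥P := ⟨h * (g : GL (Fin 3) F) * h⁻¹, hP.normal h hh _ g.2⟩
    have ho : orderOf g = 7 := by
      haveI : Fact (Nat.Prime 7) := ⟨by norm_num⟩
      exact orderOf_eq_prime hg7 hg1
    have ho' : orderOf g' = 7 := by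
      rw [← Subgroup.orderOf_coe, show (g' : GL (Fin 3) F) = MulAut.conj h (g : GL (Fin 3) F) from rfl,
        MulEquiv.orderOf_eq, Subgroup.orderOf_coe, ho]
    have htr : trc P g' = x := Matrix.trace_units_conj h _
    haveI : Finite ↥P := Nat.finite_of_card_ne_zero (by omega)
    obtain ⟨p, hp⟩ : ∃ p : ↥P, p * g * p⁻¹ = g' := by
      rcases conj_or_conj_inv h168 ho ho' with hc | hc
      · exact isConj_iff.1 hc
      · exact absurd (by rw [← hinvtr, trc_eq_of_isConj hc, htr] : x ^ 5 = x) hx5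
    set h₁ := (p : GL (Fin 3) F)⁻¹ * h with hh₁
    have hh₁H : h₁ ∈ H := mul_mem (inv_mem (hP.le p.2)) hh
    have hh₁g : h₁ * (g : GL (Fin 3) F) * h₁⁻¹ = g := by
      have h' : (p : GL (Fin 3) F) * g * (p : GL (Fin 3) F)⁻¹ = h * g * h⁻¹ := congrArg Subtype.val hp
      calc h₁ * (g : GL (Fin 3) F) * h₁⁻¹ = (p : GL (Fin 3) F)⁻¹ * (h * g * h⁻¹) * p := by rw [hh₁]; group
        _ = g := by rw [← h']; group
    let t : ↥P := ⟨h₁ * (a : GL (Fin 3) F) * h₁⁻¹, hP.normal h₁ hh₁H _ a.2⟩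
    have ht2 : t ^ 2 = 1 := Subtype.ext (by
      show (h₁ * (a : GL (Fin 3) F) * h₁⁻¹) ^ 2 = 1
      rw [conj_pow, ← SubgroupClass.coe_pow, ha]; simp)
    have ht1 : t ≠ 1 := fun he => hcoe ha1 (conj_eq_one_iff.1 (congrArg Subtype.val he))
    have ht3 : (t * g) ^ 3 = 1 := Subtype.ext (by
      show (h₁ * (a : GL (Fin 3) F) * h₁⁻¹ * (g : GL (Fin 3) F)) ^ 3 = 1
      have e1 : h₁ * (a : GL (Fin 3) F) * h₁⁻¹ * (g : GL (Fin 3) F) = h₁ * (b : GL (Fin 3) F) * h₁⁻¹ := by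
        have e2 : (b : GL (Fin 3) F) = (a : GL (Fin 3) F) * g := by
          rw [hg, Subgroup.coe_mul, ← mul_assoc, ← Subgroup.coe_mul, ← pow_two, ha, OneMemClass.coe_one,
            one_mul]
        conv_lhs => rw [← hh₁g]
        rw [e2]; group
      rw [e1, conj_pow, ← SubgroupClass.coe_pow, hb]; simp)
    obtain ⟨k, hk⟩ := hinv t ht2 ht1 ht3
    set h₂ := ((g ^ k : ↥P) : GL (Fin 3) F)⁻¹ * h₁ with hh₂
    have hh₂H : h₂ ∈ H := mul_mem (inv_mem (hP.le (g ^ k).2)) hh₁H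
    have hha : h₂ * (a : GL (Fin 3) F) * h₂⁻¹ = a := by
      have h' : h₁ * (a : GL (Fin 3) F) * h₁⁻¹ =
          ((g ^ k : ↥P) : GL (Fin 3) F) * a * ((g ^ k : ↥P) : GL (Fin 3) F)⁻¹ := congrArg Subtype.val hk
      calc h₂ * (a : GL (Fin 3) F) * h₂⁻¹
          = ((g ^ k : ↥P) : GL (Fin 3) F)⁻¹ * (h₁ * a * h₁⁻¹) * ((g ^ k : ↥P) : GL (Fin 3) F) := by
            rw [hh₂]; group
        _ = a := by rw [h']; group
    have hhg : h₂ * (g : GL (Fin 3) F) * h₂⁻¹ = g := by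
      calc h₂ * (g : GL (Fin 3) F) * h₂⁻¹
          = ((g ^ k : ↥P) : GL (Fin 3) F)⁻¹ * (h₁ * g * h₁⁻¹) * ((g ^ k : ↥P) : GL (Fin 3) F) := by
            rw [hh₂]; group
        _ = g := by
          rw [hh₁g, SubgroupClass.coe_pow, mul_assoc, (Commute.self_pow (g : GL (Fin 3) F) k).eq,
            inv_mul_cancel_left]
    have hz : h₂ ∈ Geo.scalars (Fin 3) F := by
      refine hP.centralizer_scalar h₂ hh₂H fun y hy' => ?_
      have hab : ∀ y : ↥P, (y : GL (Fin 3) F) ∈ Subgroup.centralizer ({h₂} : Set (GL (Fin 3) F)) := by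
        have hca : (a : GL (Fin 3) F) ∈ Subgroup.centralizer ({h₂} : Set (GL (Fin 3) F)) :=
          Subgroup.mem_centralizer_singleton_iff.2 (mul_inv_eq_iff_eq_mul.1 hha).symm
        refine hclosure _ hca ?_
        have hcg : (g : GL (Fin 3) F) ∈ Subgroup.centralizer ({h₂} : Set (GL (Fin 3) F)) :=
          Subgroup.mem_centralizer_singleton_iff.2 (mul_inv_eq_iff_eq_mul.1 hhg).symm
        have := mul_mem (inv_mem hca) hcg
        rwa [hg, Subgroup.coe_mul, inv_mul_cancel_left] at this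
      have := Subgroup.mem_centralizer_singleton_iff.1 (hab ⟨y, hy'⟩)
      rw [show h₂ * y = y * h₂ from this.symm, mul_inv_cancel_right, mul_inv_cancel]
      exact one_mem _
    refine ⟨(p : GL (Fin 3) F) * ((g ^ k : ↥P) : GL (Fin 3) F), mul_mem p.2 (g ^ k).2, h₂, hz, ?_⟩
    rw [hh₂, hh₁]; group
  -- maximality
  set M : Subgroup (GL (Fin 3) F) := K.comap (MulAut.conj T₁).toMonoidHom with hM
  have hmemM : ∀ p, p ∈ M ↔ T₁ * p * T₁⁻¹ ∈ K := fun p => Iff.rfl
  have hstabz : ∀ z ∈ Geo.scalars (Fin 3) F, z ∈ Aschbacher.SU3.stab (phiA fun x : F => x ^ 5) := by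
    intro z hz v
    obtain ⟨c, hc⟩ := (Geo.mem_scalars_iff _).1 hz
    rw [hc, Matrix.smul_mulVec, Matrix.one_mulVec]
    exact phiA_smul hF _ c.ne_zero v
  have hHM : H ≤ M := by
    intro h hh
    obtain ⟨p, hp, z, hz, rfl⟩ := hsplit h hh
    refine mul_mem ((hmemM p).2 (by rw [hT₁]; exact hPK p hp)) ((hmemM z).2 ?_)
    have hzΓ : z ∈ Γ := by
      have := mul_mem (inv_mem (hPΓ hp)) (hHΓ hh)
      rwa [inv_mul_cancel_left] at this
    rw [scalars_central hz T₁, mul_inv_cancel_right]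
    exact ⟨hzΓ, hstabz z hz⟩
  have hnorm : ∀ q ∈ Cfsg.GU 3 F 5, ∀ p ∈ Γ, q * p * q⁻¹ ∈ Γ := fun q hq p hp =>
    Subgroup.mem_inf.2 ⟨mul_mem (mul_mem hq hp.1) (inv_mem hq), (MonoidHom.normal_ker _).conj_mem p hp.2 q⟩
  have hMΓ : M ≤ Γ := fun p hp => by
    have := hnorm _ (inv_mem hT₁U) _ ((hmemM p).1 hp).1
    rwa [inv_inv, ← mul_assoc, ← mul_assoc, inv_mul_cancel, one_mul, inv_mul_cancel_right] at this
  have hMne : M ≠ Γ := by
    intro hMeq
    obtain ⟨G, hG, hGn, -, -⟩ := exists_not_mem_stab hF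
    have hm : T₁⁻¹ * G * T₁⁻¹⁻¹ ∈ M := hMeq ▸ hnorm _ (inv_mem hT₁U) G hG
    rw [hmemM, inv_inv, ← mul_assoc, ← mul_assoc, mul_inv_cancel, one_mul, mul_inv_cancel_right] at hm
    exact hGn hm.2
  have hMH : M = H := (hH.2 M hHM hMΓ).resolve_right hMne
  -- an element of order five
  obtain ⟨hsu5, hkeep5, hpow5, hne5⟩ := five_facts
  obtain ⟨G, hG, hGK⟩ := exists_keep S hF hsu5 hkeep5
  have hG5 : G ^ 5 = 1 := Units.ext (by
    rw [Units.val_pow_eq_pow_val, hG, ← evM_mpow, evM_congr S hpow5, evM_mpow, pow_zero, Units.val_one])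
  set f := T₁⁻¹ * G * T₁ with hf
  have hfM : f ∈ H := hMH ▸ (hmemM f).2 (by
    rw [hf, ← mul_assoc, ← mul_assoc, mul_inv_cancel, one_mul, mul_inv_cancel_right]; exact hGK)
  obtain ⟨p, hp, z, hz, hfpz⟩ := hsplit f hfM
  have hp168 : p ^ 168 = 1 := by
    have := congrArg Subtype.val (pow_card_eq_one' (x := (⟨p, hp⟩ : ↥P)))
    rwa [h168] at this
  have hz3 : z ^ 3 = 1 := by
    have hzΓ : z ∈ Γ := by
      have := mul_mem (inv_mem (hPΓ hp)) (hHΓ hfM)
      rwa [hfpz, inv_mul_cancel_left] at this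
    obtain ⟨c, hc⟩ := (Geo.mem_scalars_iff _).1 hz
    have hd : (z : Matrix (Fin 3) (Fin 3) F).det = 1 := congrArg Units.val (MonoidHom.mem_ker.1 hzΓ.2)
    rw [hc, Matrix.det_smul, Matrix.det_one, mul_one, Fintype.card_fin] at hd
    exact Units.ext (by rw [Units.val_pow_eq_pow_val, hc, _root_.smul_pow, one_pow, hd, one_smul, Units.val_one])
  have hf5 : f ^ 5 = 1 := by
    rw [hf, show T₁⁻¹ * G * T₁ = T₁⁻¹ * G * T₁⁻¹⁻¹ by rw [inv_inv], conj_pow, hG5]; group
  have hf504 : f ^ 504 = 1 := by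
    rw [hfpz, (show Commute p z from scalars_central hz p).mul_pow, show 504 = 168 * 3 from rfl, pow_mul,
      hp168, one_pow, one_mul, mul_comm, pow_mul, hz3, one_pow]
  have hf1 : f = 1 := orderOf_eq_one_iff.1 (Nat.eq_one_of_dvd_coprimes (show Nat.Coprime 5 504 by norm_num)
    (orderOf_dvd_of_pow_eq_one hf5) (orderOf_dvd_of_pow_eq_one hf504))
  have hG1 : G = 1 := by
    have := congrArg (fun y => T₁ * y * T₁⁻¹) hf1
    simpa [hf, mul_assoc] using this
  refine hne5 fun i j => ev_injective S ?_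
  have := congrFun (congrFun (show evM S fiveT = evM S (mpow fiveT 0) by
    rw [evM_mpow, pow_zero, ← hG, hG1, Units.val_one]) i) j
  exact this

end Cfsg.Agent.Mitchell.Residual.UThreeFive
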